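import Cfsg.Agent.Lib.MatConj.RegUnip

/-! Coverings of a group by the conjugates of two proper subgroups: generalities and `PSL_n`. -/

set_option autoImplicit false

namespace CfsgLib.Cov2

open Polynomial Module Matrix CfsgLib.MatConj

/-- `G` is the union of the conjugates of two proper subgroups. -/
def Cov (G : Type*) [Group G] : Prop :=
  ∃ H K : Subgroup G, H ≠ ⊤ ∧ K ≠ ⊤ ∧ ∀ g : G, ∃ x : G, x * g * x⁻¹ ∈ H ∨ x * g * x⁻¹ ∈ K

theorem map_ne_top {G : Type*} [Group G] {N H : Subgroup G} [N.Normal] (hN : N ≤ H) (hH : H ≠ ⊤) :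
    H.map (QuotientGroup.mk' N) ≠ ⊤ := fun h => hH (by
  have := congrArg (Subgroup.comap (QuotientGroup.mk' N)) h
  rwa [Subgroup.comap_map_eq, QuotientGroup.ker_mk', sup_eq_left.2 hN, Subgroup.comap_top] at this)

theorem cov_quot {G : Type*} [Group G] (N H K : Subgroup G) [N.Normal] (hN : N ≤ H) (hN' : N ≤ K)
    (hH : H ≠ ⊤) (hK : K ≠ ⊤) (h : ∀ g : G, ∃ x : G, x * g * x⁻¹ ∈ H ∨ x * g * x⁻¹ ∈ K) :
    Cov (G ⧸ N) := by
  refine ⟨H.map (QuotientGroup.mk' N), K.map (QuotientGroup.mk' N), map_ne_top hN hH,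
    map_ne_top hN' hK, fun g => ?_⟩
  obtain ⟨g, rfl⟩ := QuotientGroup.mk'_surjective N g
  obtain ⟨x, hx⟩ := h g
  refine ⟨QuotientGroup.mk' N x, ?_⟩
  rw [← map_inv, ← map_mul, ← map_mul]
  exact hx.imp (Subgroup.mem_map_of_mem _) (Subgroup.mem_map_of_mem _)

theorem exists_two_reps {α : Type*} [Nonempty α] (P : α → Prop) :
    ∃ a b : α, ∀ x, (P x ↔ P a) ∨ (P x ↔ P b) := by
  by_cases h1 : ∃ a, P a
  · obtain ⟨a, ha⟩ := h1
    by_cases h2 : ∃ b, ¬ P b
    · obtain ⟨b, hb⟩ := h2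
      exact ⟨a, b, fun x => by tauto⟩
    · push Not at h2
      exact ⟨a, a, fun x => by simp [h2]⟩
  · push Not at h1
    exact ⟨Classical.arbitrary α, Classical.arbitrary α, fun x => by simp [h1]⟩

variable {F : Type*} [Field F] {n : Type*} [Fintype n] [DecidableEq n] {G : Type*} [Group G]

section Subgroups

variable (ρ : G →* Matrix n n F)

theorem rho_inv_mul (g : G) : ρ g⁻¹ * ρ g = 1 := by rw [← map_mul, inv_mul_cancel, map_one]

theorem rho_mul_inv (g : G) : ρ g * ρ g⁻¹ = 1 := by rw [← map_mul, mul_inv_cancel, map_one]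

theorem rho_inv_mulVec (g : G) (v : n → F) : ρ g⁻¹ *ᵥ ρ g *ᵥ v = v := by
  rw [mulVec_mulVec, rho_inv_mul, one_mulVec]

theorem rho_mulVec_inv (g : G) (v : n → F) : ρ g *ᵥ ρ g⁻¹ *ᵥ v = v := by
  rw [mulVec_mulVec, rho_mul_inv, one_mulVec]

/-- The stabiliser of a subspace. -/
def stab (W : Submodule F (n → F)) : Subgroup G where
  carrier := {g | ∀ w ∈ W, ρ g *ᵥ w ∈ W}
  mul_mem' {a b} ha hb w hw := by rw [map_mul, ← mulVec_mulVec]; exact ha _ (hb w hw)
  one_mem' w hw := by simpa using hw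
  inv_mem' {a} ha w hw := by
    have h1 : Function.Injective ((toLin' (ρ a)).restrict (p := W) (q := W) ha) := fun x y h =>
      Subtype.ext (by
        have h2 : ρ a *ᵥ x.1 = ρ a *ᵥ y.1 := congrArg Subtype.val h
        rw [← rho_inv_mulVec ρ a x, h2, rho_inv_mulVec])
    obtain ⟨y, hy⟩ := LinearMap.injective_iff_surjective.1 h1 ⟨w, hw⟩
    have h2 : ρ a *ᵥ y.1 = w := congrArg Subtype.val hy
    rw [← h2, rho_inv_mulVec]
    exact y.2

theorem mem_stab {W : Submodule F (n → F)} {g : G} : g ∈ stab ρ W ↔ ∀ w ∈ W, ρ g *ᵥ w ∈ W :=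
  Iff.rfl

theorem mem_stab_of_scalar {W : Submodule F (n → F)} {g : G} {a : F} (h : ρ g = a • 1) :
    g ∈ stab ρ W := fun w hw => by
  rw [h, smul_mulVec, one_mulVec]; exact W.smul_mem a hw

theorem conj_mem_stab {W W' : Submodule F (n → F)} {g x : G} (hg : ∀ w ∈ W', ρ g *ᵥ w ∈ W')
    (hx : W'.map (toLin' (ρ x)) = W) : x * g * x⁻¹ ∈ stab ρ W := by
  subst hx
  rintro _ ⟨w, hw, rfl⟩
  refine ⟨ρ g *ᵥ w, hg w hw, ?_⟩
  simp only [toLin'_apply, map_mul, ← mulVec_mulVec, rho_inv_mulVec]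

theorem conj_mem_stab_line {u v : n → F} {g x : G} {a c : F} (hg : ρ g *ᵥ u = a • u)
    (hx : ρ x *ᵥ (c • u) = v) : x * g * x⁻¹ ∈ stab ρ (Submodule.span F {v}) := by
  refine conj_mem_stab ρ (W' := Submodule.span F {c • u}) (fun w hw => ?_) ?_
  · obtain ⟨t, rfl⟩ := Submodule.mem_span_singleton.1 hw
    refine Submodule.mem_span_singleton.2 ⟨t * a, ?_⟩
    simp only [mulVec_smul, hg, smul_smul]
    congr 1; ring
  · rw [Submodule.map_span, Set.image_singleton, toLin'_apply, hx]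

/-- The elements normalising `θ` up to translations from `A`. -/
def nrm (θ : Matrix n n F) (A : AddSubgroup F) : Subgroup G where
  carrier := {g | ∃ k ∈ A, θ * ρ g = ρ g * (θ + k • 1)}
  mul_mem' {a b} := by
    rintro ⟨k, hk, ha⟩ ⟨l, hl, hb⟩
    refine ⟨k + l, A.add_mem hk hl, ?_⟩
    rw [map_mul, ← mul_assoc, ha, mul_assoc, add_mul, hb, mul_assoc]
    simp only [mul_add, add_smul, smul_mul_assoc, mul_smul_comm, one_mul, mul_one]
    abel
  one_mem' := ⟨0, A.zero_mem, by simp⟩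
  inv_mem' {a} := by
    rintro ⟨k, hk, ha⟩
    refine ⟨-k, A.neg_mem hk, ?_⟩
    have h : ρ a⁻¹ * (θ * ρ a) * ρ a⁻¹ = ρ a⁻¹ * (ρ a * (θ + k • 1)) * ρ a⁻¹ := by rw [ha]
    rw [← mul_assoc (ρ a⁻¹) (ρ a), rho_inv_mul, mul_assoc, mul_assoc, rho_mul_inv] at h
    simp only [mul_add, add_mul, smul_mul_assoc, mul_smul_comm, one_mul, mul_one, neg_smul,
      mul_neg] at h ⊢
    rw [h]; abel

theorem mem_nrm_of_scalar {θ : Matrix n n F} {A : AddSubgroup F} {g : G} {a : F}
    (h : ρ g = a • 1) : g ∈ nrm ρ θ A := ⟨0, A.zero_mem, by simp [h]⟩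

theorem conj_mem_nrm {θ θ' : Matrix n n F} {A : AddSubgroup F} {g x : G} {k : F} (hk : k ∈ A)
    (hg : θ' * ρ g = ρ g * (θ' + k • 1)) (hx : ρ x * θ' = θ * ρ x) :
    x * g * x⁻¹ ∈ nrm ρ θ A := by
  refine ⟨k, hk, ?_⟩
  have h1 : θ' * ρ x⁻¹ = ρ x⁻¹ * θ := by
    calc θ' * ρ x⁻¹ = ρ x⁻¹ * (ρ x * θ') * ρ x⁻¹ := by
          rw [← mul_assoc, rho_inv_mul, one_mul]
      _ = ρ x⁻¹ * θ := by rw [hx, mul_assoc, mul_assoc, rho_mul_inv, mul_one]
  calc θ * ρ (x * g * x⁻¹) = ρ x * (θ' * ρ g) * ρ x⁻¹ := by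
        simp only [map_mul, ← mul_assoc, hx]
    _ = ρ x * ρ g * (θ' * ρ x⁻¹ + k • ρ x⁻¹) := by
        rw [hg]; simp only [mul_assoc, add_mul, smul_mul_assoc, one_mul]
    _ = _ := by
        rw [h1]; simp only [map_mul, mul_assoc, mul_add, mul_smul_comm, mul_one]

/-- A matrix normalised up to translation by a rank-one perturbation of `1` has an eigenvector. -/
theorem exists_eigen_of_rank_one {θ : Matrix n n F} {v w : n → F} {k : F} (hw : w ≠ 0)
    (hk : k = 0 ∨ 3 ≤ Fintype.card n)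
    (h : θ * (1 + vecMulVec v w) = (1 + vecMulVec v w) * (θ + k • 1)) :
    ∃ a : F, θ *ᵥ v = a • v := by
  have h1 : ∀ x, (w ⬝ᵥ x) • θ *ᵥ v = (w ⬝ᵥ θ *ᵥ x) • v + k • (x + (w ⬝ᵥ x) • v) := fun x => by
    have := congrArg (· *ᵥ x) h
    simp only [← mulVec_mulVec, add_mulVec, one_mulVec, vecMulVec_mulVec, mulVec_add, mulVec_smul,
      smul_mulVec, op_smul_eq_smul] at this
    linear_combination (exp := 1) this
  have hk0 : k = 0 := by
    refine hk.elim id fun h3 => ?_
    let φ : (n → F) →ₗ[F] F × F := LinearMap.prod (dotProductBilin F F w)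
      (dotProductBilin F F w ∘ₗ toLin' θ)
    have h4 : LinearMap.ker φ ≠ ⊥ := LinearMap.ker_ne_bot_of_finrank_lt (by simp; omega)
    obtain ⟨x, hx, hx0⟩ := Submodule.exists_mem_ne_zero_of_ne_bot h4
    have e1 : w ⬝ᵥ x = 0 := congrArg Prod.fst hx
    have e2 : w ⬝ᵥ θ *ᵥ x = 0 := congrArg Prod.snd hx
    have := h1 x
    simp only [e1, e2, zero_smul, add_zero, zero_add] at this
    exact (smul_eq_zero.1 this.symm).resolve_right hx0
  obtain ⟨i, hi⟩ := Function.ne_iff.1 hw
  have := h1 (Pi.single i 1)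
  simp only [hk0, zero_smul, add_zero, dotProduct_single, mul_one] at this
  refine ⟨(w i)⁻¹ * (w ⬝ᵥ θ *ᵥ Pi.single i 1), ?_⟩
  rw [mul_smul, ← this, smul_smul, inv_mul_cancel₀ hi, one_smul]

end Subgroups

theorem aeval_mulVec_eigen {A : Matrix n n F} {v : n → F} {a : F} (h : A *ᵥ v = a • v) (f : F[X]) :
    aeval A f *ᵥ v = f.eval a • v := by
  induction f using Polynomial.induction_on with
  | C c => simp [Algebra.algebraMap_eq_smul_one, smul_mulVec]
  | add p q hp hq => simp [add_mulVec, hp, hq, add_smul]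
  | monomial k c ih =>
    rw [pow_succ, ← mul_assoc, map_mul, aeval_X, ← mulVec_mulVec, h, mulVec_smul, ih,
      eval_mul (q := X), eval_X, smul_smul, mul_comm]

theorem eq_zero_of_eigen {A : Matrix n n F} {m : F[X]} (hm : ∀ a, m.eval a ≠ 0)
    (hA : aeval A m = 0) {v : n → F} {a : F} (h : A *ᵥ v = a • v) : v = 0 := by
  have := aeval_mulVec_eigen h m
  rw [hA, zero_mulVec] at this
  exact (smul_eq_zero.1 this.symm).resolve_left (hm a)

theorem eval_ne_zero_of_irred {m : F[X]} (hm : Irreducible m) (hd : 2 ≤ m.natDegree) (a : F) :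
    m.eval a ≠ 0 := fun h => by
  have := degree_eq_one_of_irreducible_of_root hm h
  rw [natDegree_eq_of_degree_eq_some (n := 1) this] at hd
  omega

theorem exists_irred (F : Type*) [Field F] [Finite F] {d : ℕ} (hd : 0 < d) :
    ∃ m : F[X], Irreducible m ∧ m.Monic ∧ m.natDegree = d := by
  obtain ⟨p, hp⟩ := CharP.exists F
  have : Fact p.Prime := ⟨CharP.char_is_prime F p⟩
  have : NeZero d := ⟨hd.ne'⟩
  let b := Field.powerBasisOfFiniteOfSeparable F (FiniteField.Extension F p d)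
  exact ⟨minpoly F b.gen, minpoly.irreducible b.isIntegral_gen, minpoly.monic b.isIntegral_gen,
    by rw [b.natDegree_minpoly, ← b.finrank, FiniteField.finrank_extension]⟩

theorem exists_dvd_aeval [Finite F] {p m : F[X]} (hp : Irreducible p) (hm : Irreducible m)
    (h : m.natDegree ∣ p.natDegree) : ∃ f : F[X], p ∣ aeval f m := by
  have := Fact.mk hp
  have := Fact.mk hm
  have := finite_adjoinRoot hp.ne_zero
  have : Finite (AdjoinRoot p) := Module.finite_of_finite F
  obtain ⟨φ⟩ := FiniteField.nonempty_algHom_of_finrank_dvd (F := F) (K := AdjoinRoot m)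
    (L := AdjoinRoot p) (by rwa [finrank_adjoinRoot, finrank_adjoinRoot])
  obtain ⟨f, hf⟩ := AdjoinRoot.mk_surjective (φ (AdjoinRoot.root m))
  refine ⟨f, AdjoinRoot.mk_eq_zero.1 ?_⟩
  rw [← AdjoinRoot.aeval_eq, ← aeval_algHom_apply, AdjoinRoot.aeval_eq, hf, aeval_algHom_apply,
    AdjoinRoot.aeval_eq, AdjoinRoot.mk_self, map_zero]

/-- If the degree of `m` divides the degrees of all irreducible factors, `m` has a root in `F[A]`. -/
theorem exists_root_aeval [Finite F] (A : Matrix n n F) {m : F[X]} (hm : Irreducible m)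
    (h : ∀ x ∈ edM A, m.natDegree ∣ x.1.natDegree) : ∃ f : F[X], aeval (aeval A f) m = 0 := by
  classical
  have := Fintype.ofFinite F
  let S := ((edM A).map Prod.fst).toFinset
  have hS : ∀ p : S, Irreducible p.1 ∧ p.1.Monic ∧ m.natDegree ∣ p.1.natDegree := by
    rintro ⟨p, hp⟩
    obtain ⟨x, hx, rfl⟩ := Multiset.mem_map.1 (Multiset.mem_toFinset.1 hp)
    exact ⟨(edM_valid A x hx).1, (edM_valid A x hx).2.1, h x hx⟩
  choose f hf using fun p : S => exists_dvd_aeval (hS p).1 hm (hS p).2.2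
  obtain ⟨r, hr⟩ := Ideal.exists_forall_sub_mem_ideal (I := fun p : S => Ideal.span {p.1})
    (fun p q hpq => (Ideal.isCoprime_span_singleton_iff _ _).2
      ((hS p).1.coprime_iff_not_dvd.2 fun hd => hpq (Subtype.ext
        (eq_of_monic_of_associated (hS p).2.1 (hS q).2.1
          ((hS p).1.associated_of_dvd (hS q).1 hd))))) f
  have h1 : ∀ x ∈ edM A, x.1 ∣ aeval r m := fun x hx => by
    let p : S := ⟨x.1, Multiset.mem_toFinset.2 (Multiset.mem_map_of_mem _ hx)⟩
    have h2 : AdjoinRoot.mk x.1 r = AdjoinRoot.mk x.1 (f p) :=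
      AdjoinRoot.mk_eq_mk.2 (Ideal.mem_span_singleton.1 (hr p))
    have h3 := AdjoinRoot.mk_eq_zero.2 (hf p)
    rw [← AdjoinRoot.mk_eq_zero]
    rw [← AdjoinRoot.aeval_eq, ← aeval_algHom_apply, AdjoinRoot.aeval_eq] at h3 ⊢
    rwa [h2]
  have h2 : ∀ (k : ℕ) (B : Matrix n n F), aeval (B ^ Fintype.card F ^ k) m =
      aeval B m ^ Fintype.card F ^ k := fun k => by
    induction k with
    | zero => simp
    | succ k ih =>
      intro B
      rw [pow_succ, pow_mul, ← expand_aeval, FiniteField.expand_card, map_pow, ih, ← pow_mul]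
  refine ⟨r ^ Fintype.card F ^ Fintype.card n, ?_⟩
  rw [map_pow, h2, aeval_algHom_apply, ← map_pow, aeval_eq_zero_iff_edM]
  intro x hx
  refine (pow_dvd_pow_of_dvd (h1 x hx) _).trans (pow_dvd_pow _ ?_)
  have : x.2 ≤ Fintype.card n := by
    rw [card_eq_sum_edM A]
    refine le_trans ?_ (Multiset.single_le_sum (fun _ _ => Nat.zero_le _) _
      (Multiset.mem_map_of_mem _ hx))
    exact Nat.le_mul_of_pos_left _ (edM_valid A x hx).1.natDegree_pos
  exact this.trans (Nat.lt_pow_self Fintype.one_lt_card).le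

theorem edM_of_irred {A : Matrix n n F} {m : F[X]} (hm : Irreducible m) (hm' : m.Monic)
    (hA : aeval A m = 0) : edM A = Multiset.replicate (Fintype.card n / m.natDegree) (m, 1) := by
  have h1 : ∀ x ∈ edM A, x = (m, 1) := fun x hx => by
    obtain ⟨h2, h3, h4⟩ := edM_valid A x hx
    have h5 := (aeval_eq_zero_iff_edM A m).1 hA x hx
    exact Prod.ext (eq_of_monic_of_associated h3 hm'
      (h2.associated_of_dvd hm ((dvd_pow_self _ h4.ne').trans h5)))
      (ed_exp_eq_one hm.squarefree (by rw [aeval_toLin', hA, map_zero]) hx)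
  have h2 := Multiset.eq_replicate_card.2 h1
  have h3 := card_eq_sum_edM A
  rw [h2] at h3 ⊢
  simp only [Multiset.map_replicate, Multiset.sum_replicate, mul_one, smul_eq_mul] at h3 ⊢
  rw [h3, Nat.mul_div_cancel _ hm.natDegree_pos]

theorem isConj_of_irred {A B : Matrix n n F} {m : F[X]} (hm : Irreducible m) (hm' : m.Monic)
    (hA : aeval A m = 0) (hB : aeval B m = 0) : IsConj A B :=
  isConj_iff_edM.2 ((edM_of_irred hm hm' hA).trans (edM_of_irred hm hm' hB).symm)

theorem exists_aeval_irred {m : F[X]} (hm : Irreducible m) (hm' : m.Monic)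
    (h : m.natDegree ∣ Fintype.card n) : ∃ J : Matrix n n F, aeval J m = 0 := by
  obtain ⟨J, hJ⟩ := exists_edM_eq (n := n)
    (s := Multiset.replicate (Fintype.card n / m.natDegree) (m, 1))
    (fun x hx => by rw [Multiset.eq_of_mem_replicate hx]; exact ⟨hm, hm', one_pos⟩)
    (by simp [Nat.div_mul_cancel h])
  exact ⟨J, (aeval_eq_zero_iff_edM J m).2 fun x hx => by
    rw [hJ] at hx; rw [Multiset.eq_of_mem_replicate hx]; simp⟩

theorem exists_ker_of_mem_edM {A : Matrix n n F} {x : F[X] × ℕ} (hx : x ∈ edM A) :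
    ∃ v, v ≠ 0 ∧ aeval A x.1 *ᵥ v = 0 := by
  classical
  obtain ⟨h1, h2, h3⟩ := edM_valid A x hx
  have h4 := gcdDeg_edM_add_rank A (x.1 ^ 1)
  rw [gcdDeg_pow (edM_valid A) h1 h2, pow_one] at h4
  have h5 := finrank_ker_add_rank (aeval A x.1)
  have h6 : 0 < finrank F (LinearMap.ker (toLin' (aeval A x.1))) := by
    have := Multiset.single_le_sum (fun _ _ => Nat.zero_le _) _ (Multiset.mem_map_of_mem
      (fun y : F[X] × ℕ => if y.1 = x.1 then x.1.natDegree * min y.2 1 else 0) hx)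
    rw [if_pos rfl, min_eq_right h3] at this
    have := h1.natDegree_pos
    omega
  obtain ⟨v, hv, h0⟩ := Submodule.exists_mem_ne_zero_of_ne_bot
    (Submodule.finrank_eq_zero.not.1 h6.ne')
  exact ⟨v, h0, hv⟩

theorem exists_eigen_of_natDegree_one {A : Matrix n n F} {x : F[X] × ℕ} (hx : x ∈ edM A)
    (h1 : x.1.natDegree = 1) : ∃ a : F, x.1 = X - C a ∧ ∃ v, v ≠ 0 ∧ A *ᵥ v = a • v := by
  obtain ⟨v, h0, hv⟩ := exists_ker_of_mem_edM hx
  have h2 : x.1 = X - C (-x.1.coeff 0) := by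
    rw [C_neg, sub_neg_eq_add]; exact (edM_valid A x hx).2.1.eq_X_add_C h1
  refine ⟨_, h2, v, h0, ?_⟩
  rw [h2, map_sub, aeval_X, aeval_C, sub_mulVec, Algebra.algebraMap_eq_smul_one, smul_mulVec,
    one_mulVec] at hv
  exact sub_eq_zero.1 hv

/-- Splitting off one elementary divisor. -/
theorem edM_split {A : Matrix n n F} {x : F[X] × ℕ} (hx : x ∈ edM A) :
    ∃ t, edM A = x ::ₘ t ∧ Fintype.card n =
      x.1.natDegree * x.2 + (t.map fun y => y.1.natDegree * y.2).sum := by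
  obtain ⟨t, ht⟩ := Multiset.exists_cons_of_mem hx
  exact ⟨t, ht, by rw [card_eq_sum_edM A, ht, Multiset.map_cons, Multiset.sum_cons]⟩

theorem sum_eq_one {t : Multiset (F[X] × ℕ)} (ht : Valid t)
    (h : (t.map fun y => y.1.natDegree * y.2).sum = 1) :
    ∃ p : F[X], t = {(p, 1)} ∧ p.natDegree = 1 := by
  induction t using Multiset.induction_on with
  | empty => simp at h
  | cons y t _ =>
    obtain ⟨h1, -, h3⟩ := ht y (Multiset.mem_cons_self _ _)
    have h4 := Nat.mul_pos h1.natDegree_pos h3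
    rw [Multiset.map_cons, Multiset.sum_cons] at h
    have h5 : y.1.natDegree * y.2 = 1 := by omega
    have h6 : t = 0 := Multiset.eq_zero_of_forall_notMem fun z hz => by
      obtain ⟨h1, -, h3⟩ := ht z (Multiset.mem_cons_of_mem hz)
      have := Multiset.single_le_sum (fun _ _ => Nat.zero_le _) _ (Multiset.mem_map_of_mem
        (fun y : F[X] × ℕ => y.1.natDegree * y.2) hz)
      have := Nat.mul_pos h1.natDegree_pos h3
      omega
    exact ⟨y.1, by rw [h6, ← Nat.eq_one_of_mul_eq_one_left h5]; rfl,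
      Nat.eq_one_of_mul_eq_one_right h5⟩

theorem sum_eq_zero {t : Multiset (F[X] × ℕ)} (ht : Valid t)
    (h : (t.map fun y => y.1.natDegree * y.2).sum = 0) : t = 0 :=
  Multiset.eq_zero_of_forall_notMem fun z hz => by
    obtain ⟨h1, -, h3⟩ := ht z hz
    have := Multiset.single_le_sum (fun _ _ => Nat.zero_le _) _ (Multiset.mem_map_of_mem
      (fun y : F[X] × ℕ => y.1.natDegree * y.2) hz)
    have := Nat.mul_pos h1.natDegree_pos h3
    omega

/-- `SL_n` as matrices. -/
def slMat (n : Type*) [Fintype n] [DecidableEq n] (F : Type*) [Field F] :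
    SpecialLinearGroup n F →* Matrix n n F where
  toFun g := g
  map_one' := rfl
  map_mul' _ _ := rfl

theorem exists_sl_mulVec {i j : n} (hij : i ≠ j) {v : n → F} (hv : v ≠ 0) :
    ∃ x : SpecialLinearGroup n F, (x : Matrix n n F) *ᵥ v = Pi.single i 1 := by
  have key : ∀ (w : n → F) (k : n), w k = 1 →
      ∃ x : SpecialLinearGroup n F, ∀ u : n → F, (x : Matrix n n F) *ᵥ u =
        u + u k • (w - Pi.single k 1) := fun w k hk =>
    ⟨⟨1 + vecMulVec (w - Pi.single k 1) (Pi.single k 1), by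
      rw [vecMulVec_eq Unit, det_one_add_replicateCol_mul_replicateRow]
      simp [hk]⟩, fun u => by simp [add_mulVec, vecMulVec_mulVec]⟩
  have h1 : ∀ w : n → F, w i = 1 →
      ∃ x : SpecialLinearGroup n F, (x : Matrix n n F) *ᵥ w = Pi.single i 1 := fun w hw => by
    obtain ⟨x, hx⟩ := key w i hw
    refine ⟨x⁻¹, ?_⟩
    have := hx (Pi.single i 1)
    simp only [Pi.single_eq_same, one_smul, add_sub_cancel] at this
    rw [← this]; exact rho_inv_mulVec (slMat n F) x _
  have h2 : ∀ (w : n → F) (k : n), k ≠ i → w k ≠ 0 →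
      ∃ x : SpecialLinearGroup n F, (x : Matrix n n F) *ᵥ w = Pi.single i 1 := fun w k hk hw => by
    obtain ⟨x, hx⟩ := key (Pi.single k 1 + Pi.single i ((1 - w i) / w k)) k (by simp [hk])
    obtain ⟨y, hy⟩ := h1 ((x : Matrix n n F) *ᵥ w) (by simp [hx]; field_simp; ring)
    exact ⟨y * x, by rw [← hy, mulVec_mulVec]; rfl⟩
  obtain ⟨k, hk⟩ := Function.ne_iff.1 hv
  by_cases hki : k = i
  · subst hki
    by_cases hj : v j = 0
    · obtain ⟨x, hx⟩ := key (Pi.single k 1 + Pi.single j 1) k (by simp [hij])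
      obtain ⟨y, hy⟩ := h2 ((x : Matrix n n F) *ᵥ v) j hij.symm (by simpa [hx, hj] using hk)
      exact ⟨y * x, by rw [← hy, mulVec_mulVec]; rfl⟩
    · exact h2 v j hij.symm hj
  · exact h2 v k hki hk

theorem cov_psl [Finite F] {i j : n} (hij : i ≠ j) {d : ℕ} (hd : 2 ≤ d) (hdn : d ∣ Fintype.card n)
    (h : ∀ k r : ℕ, 2 ≤ k → r ≠ 1 → ∀ e, 0 < e → Fintype.card n = k * e + r → d ∣ k) :
    Cov (ProjectiveSpecialLinearGroup n F) := by
  have : Nonempty n := ⟨i⟩
  obtain ⟨m, hm, hm', rfl⟩ := exists_irred F (d := d) (by omega)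
  obtain ⟨J, hJ⟩ := exists_aeval_irred (n := n) hm hm' hdn
  have hc : ∀ g ∈ Subgroup.center (SpecialLinearGroup n F), ∃ a : F, slMat n F g = a • 1 :=
    fun g hg => by
      obtain ⟨r, -, hr⟩ := Matrix.SpecialLinearGroup.mem_center_iff.1 hg
      exact ⟨r, by rw [smul_one_eq_diagonal, ← scalar_apply]; exact hr.symm⟩
  let t : SpecialLinearGroup n F := ⟨1 + vecMulVec (Pi.single j 1) (Pi.single i 1), by
      rw [vecMulVec_eq Unit, det_one_add_replicateCol_mul_replicateRow]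
      simp [hij]⟩
  refine cov_quot _ (stab (slMat n F) (Submodule.span F {Pi.single i 1})) (nrm (slMat n F) J ⊥)
    (fun g hg => (hc g hg).elim fun a => mem_stab_of_scalar _)
    (fun g hg => (hc g hg).elim fun a => mem_nrm_of_scalar _) (fun e => ?_) (fun e => ?_) fun g => ?_
  · have h1 : t ∈ stab (slMat n F) (Submodule.span F {Pi.single i 1}) := e ▸ Subgroup.mem_top t
    obtain ⟨a, ha⟩ := Submodule.mem_span_singleton.1 (h1 _ (Submodule.mem_span_singleton_self _))
    have := congrFun ha j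
    simp [slMat, t, vecMulVec_apply, hij.symm] at this
  · obtain ⟨k, hk, h1⟩ : t ∈ nrm (slMat n F) J ⊥ := e ▸ Subgroup.mem_top t
    obtain ⟨a, ha⟩ := exists_eigen_of_rank_one (by simp) (Or.inl (AddSubgroup.mem_bot.1 hk)) h1
    simpa using eq_zero_of_eigen (eval_ne_zero_of_irred hm hd) hJ ha
  · by_cases h1 : ∃ x ∈ edM (g : Matrix n n F), x.1.natDegree = 1
    · obtain ⟨x, hx, h1⟩ := h1
      obtain ⟨a, -, v, h0, hv⟩ := exists_eigen_of_natDegree_one hx h1
      obtain ⟨y, hy⟩ := exists_sl_mulVec hij h0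
      exact ⟨y, Or.inl (conj_mem_stab_line _ (c := 1) hv (by rw [one_smul]; exact hy))⟩
    · push Not at h1
      obtain ⟨f, hf⟩ := exists_root_aeval (g : Matrix n n F) hm fun x hx => by
        obtain ⟨t, ht, h2⟩ := edM_split hx
        obtain ⟨h3, -, h4⟩ := edM_valid _ x hx
        have := h3.natDegree_pos
        have := h1 x hx
        refine h _ _ (by omega) (fun h5 => ?_) _ h4 h2
        obtain ⟨p, rfl, hp⟩ := sum_eq_one
          (fun y hy => edM_valid _ y (ht ▸ Multiset.mem_cons_of_mem hy)) h5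
        exact h1 (p, 1) (by simp [ht]) hp
      obtain ⟨P, hP, hP'⟩ := exists_det_one_conj (isConj_of_irred hm hm' hf hJ)
        fun d _ => det_surj_of_squarefree hm.squarefree hf d
      refine ⟨⟨P, hP⟩, Or.inr (conj_mem_nrm _ (AddSubgroup.zero_mem _) ?_ hP')⟩
      rw [zero_smul, add_zero]
      exact (aeval_commute (Commute.refl _) f).symm

theorem cov_psl2 [Finite F] : Cov (ProjectiveSpecialLinearGroup (Fin 2) F) :=
  cov_psl (i := 0) (j := 1) (by decide) le_rfl (by simp) fun k r hk _ e he h => by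
    have := Nat.le_mul_of_pos_right k he
    rw [Fintype.card_fin] at h
    omega

theorem cov_psl3 [Finite F] : Cov (ProjectiveSpecialLinearGroup (Fin 3) F) :=
  cov_psl (i := 0) (j := 1) (d := 3) (by decide) (by omega) (by simp) fun k r hk hr e he h => by
    have := Nat.le_mul_of_pos_right k he
    rw [Fintype.card_fin] at h
    obtain rfl | rfl : k = 2 ∨ k = 3 := by omega
    · omega
    · rfl

theorem cov_psl4 [Finite F] : Cov (ProjectiveSpecialLinearGroup (Fin 4) F) :=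
  cov_psl (i := 0) (j := 1) (by decide) le_rfl (by simp) fun k r hk hr e he h => by
    have := Nat.le_mul_of_pos_right k he
    rw [Fintype.card_fin] at h
    obtain rfl | rfl | rfl : k = 2 ∨ k = 3 ∨ k = 4 := by omega
    all_goals omega

end CfsgLib.Cov2
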